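import Groth.Agent.DSPtsLib.Basic
import Groth.Agent.MultHomLib.Free
import Groth.Prelude.Def_Red2
import Groth.Prelude.Def_NonAbH2

/-!
# The Kummer sequence of diagonalisable groups
-/

set_option autoImplicit false
set_option linter.style.haveILetI false
set_option backward.isDefEq.respectTransparency false
set_option backward.isDefEq.respectTransparency.types false
set_option maxHeartbeats 1000000

universe u

open CategoryTheory CategoryTheory.Limits MonoidalCategory CartesianMonoidalCategory AlgebraicGeometry CoactBr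
open scoped MonObj

noncomputable section

namespace KummerExactLib

open DSPtsLib Groth.Agent.FreeAct

attribute [local instance] CoactBr.braidedAlgSpecOf
attribute [local instance] DSPtsLib.algTop

variable {S : Scheme.{u}} {M N : Type} [AddCommGroup M] [AddCommGroup N]

theorem pt_diagMap {A : Type u} [CommRing A] [Algebra Z0.{u} A] (φ : M →+ N) (χ : Multiplicative N →* A) :
    pt (chr (R := Z0.{u}) A χ) ≫ Red.diagMap Z0.{u} φ = pt (chr (R := Z0.{u}) A (χ.comp φ.toMultiplicative)) := by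
  refine Over.OverMorphism.ext ?_
  show Spec.map (CommRingCat.ofHom (chr (R := Z0.{u}) A χ).toRingHom) ≫
    Spec.map (CommRingCat.ofHom (MonoidAlgebra.mapDomainAlgHom Z0.{u} Z0.{u} φ.toMultiplicative).toRingHom) =
      Spec.map (CommRingCat.ofHom (chr (R := Z0.{u}) A (χ.comp φ.toMultiplicative)).toRingHom)
  rw [← Spec.map_comp, ← CommRingCat.ofHom_comp]
  show Spec.map (CommRingCat.ofHom ((chr (R := Z0.{u}) A χ).comp
    (MonoidAlgebra.mapDomainAlgHom Z0.{u} Z0.{u} φ.toMultiplicative)).toRingHom) = _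
  refine congrArg (fun f : MonoidAlgebra Z0.{u} (Multiplicative M) →ₐ[Z0.{u}] A => Spec.map (CommRingCat.ofHom f.toRingHom))
    ((MonoidAlgebra.lift Z0.{u} A (Multiplicative M)).symm.injective (MonoidHom.ext fun m => ?_))
  simp [chr, Algebra.smul_def]


theorem dsPt_DSmap {T : Over S} (φ : M →+ N) (χ : Multiplicative N →* Γ(T.left, ⊤)) :
    dsPt χ ≫ Red.DSmap S φ = dsPt (χ.comp φ.toMultiplicative) := by
  rw [dsPt, dsPt, ← pt_diagMap, ← Category.assoc]
  exact ((Over.mapPullbackAdj (toZ S)).homEquiv_naturality_right _ _).symm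

theorem mul_DSmap {T : Over S} (φ : M →+ N) (a b : T ⟶ Red.DS S N) :
    (a * b) ≫ Red.DSmap S φ = (a ≫ Red.DSmap S φ) * (b ≫ Red.DSmap S φ) := by
  obtain ⟨χ, rfl⟩ := (dsPt_bijective T).2 a
  obtain ⟨χ', rfl⟩ := (dsPt_bijective T).2 b
  rw [← dsPt_mul, dsPt_DSmap, dsPt_DSmap, dsPt_DSmap, ← dsPt_mul]
  rfl

theorem isMonHom_DSmap (φ : M →+ N) : IsMonHom (Red.DSmap S φ) where
  one_hom := by
    have h1 : (1 : 𝟙_ (Over S) ⟶ Red.DS S N) ≫ Red.DSmap S φ = 1 := by
      rw [← dsPt_one, dsPt_DSmap, MonoidHom.one_comp, dsPt_one]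
    rw [MonObj.one_eq_one, h1, MonObj.one_eq_one]
  mul_hom := by
    rw [MonObj.mul_eq_mul, mul_DSmap, MonObj.mul_eq_mul, MonObj.comp_mul, tensorHom_fst, tensorHom_snd]

theorem intHom_ext {A : Type*} [Monoid A] {χ χ' : Multiplicative ℤ →* A}
    (h : χ (.ofAdd 1) = χ' (.ofAdd 1)) : χ = χ' := MonoidHom.ext_mint h

variable (S) (n : ℕ)

/-- `μ_n → G_m`. -/
abbrev incl : Red.DS S (ZMod n) ⟶ Red.Gm S := Red.DSmap S (Int.castAddHom (ZMod n))

/-- The `n`-th power. -/
abbrev pw : Red.Gm S ⟶ Red.Gm S := Red.chi S (n : ℤ)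

theorem incl_comp_pw : incl S n ≫ pw S n = 1 := by
  obtain ⟨χ, hχ⟩ := (dsPt_bijective (Red.DS S (ZMod n))).2 (𝟙 _)
  rw [← Category.id_comp (incl S n ≫ pw S n), ← hχ, ← Category.assoc, dsPt_DSmap]
  refine ((dsPt_DSmap (zmultiplesHom ℤ (n : ℤ)) _).trans ?_).trans dsPt_one
  refine congrArg dsPt (intHom_ext ?_)
  show χ (Multiplicative.ofAdd (((1 : ℤ) • (n : ℤ) : ℤ) : ZMod n)) = 1
  rw [one_zsmul, Int.cast_natCast, ZMod.natCast_self]
  exact map_one χ

theorem isPullback_pw :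
    IsPullback (fst (Red.Gm S) (Red.DS S (ZMod n))) ((Red.Gm S ◁ incl S n) ≫ μ[Red.Gm S]) (pw S n) (pw S n) := by
  haveI := isMonHom_DSmap (S := S) (Int.castAddHom (ZMod n))
  haveI : IsMonHom (pw S n) := isMonHom_DSmap (zmultiplesHom ℤ (n : ℤ))
  have hmid : (Red.Gm S ◁ incl S n) ≫ μ[Red.Gm S] = fst _ _ * (snd _ _ ≫ incl S n) := by
    rw [MonObj.mul_eq_mul, MonObj.comp_mul, whiskerLeft_fst, whiskerLeft_snd]
  have hw : fst _ _ ≫ pw S n = ((Red.Gm S ◁ incl S n) ≫ μ[Red.Gm S]) ≫ pw S n := by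
    rw [hmid]
    refine (Eq.trans (mul_DSmap (zmultiplesHom ℤ (n : ℤ)) _ _) ?_).symm
    show (fst _ _ ≫ pw S n) * ((snd _ _ ≫ incl S n) ≫ pw S n) = _
    rw [Category.assoc, incl_comp_pw, MonObj.comp_one, mul_one]
  refine IsPullback.of_isLimit' ⟨hw⟩ (PullbackCone.isLimitAux' _ fun s => ?_)
  let χa := ((dsPt_bijective s.pt).2 s.fst).choose
  have ha : dsPt χa = s.fst := ((dsPt_bijective s.pt).2 s.fst).choose_spec
  let χb := ((dsPt_bijective s.pt).2 s.snd).choose
  have hb : dsPt χb = s.snd := ((dsPt_bijective s.pt).2 s.snd).choose_spec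
  have hab : χa.comp (zmultiplesHom ℤ (n : ℤ)).toMultiplicative = χb.comp (zmultiplesHom ℤ (n : ℤ)).toMultiplicative := by
    apply (dsPt_bijective s.pt).1
    rw [← dsPt_DSmap, ← dsPt_DSmap, ha, hb]
    exact s.condition
  let q : Multiplicative ℤ →* (Γ(s.pt.left, ⊤))ˣ := χb.toHomUnits * (χa.toHomUnits)⁻¹
  let c : Multiplicative ℤ →* Multiplicative (ZMod n) := (Int.castAddHom (ZMod n)).toMultiplicative
  have hc : Function.Surjective c := fun m => by
    obtain ⟨k, hk⟩ := ZMod.intCast_surjective (Multiplicative.toAdd m)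
    exact ⟨.ofAdd k, congrArg Multiplicative.ofAdd hk⟩
  have hker : c.ker ≤ q.ker := fun m hm => by
    have hm' : ((Multiplicative.toAdd m : ℤ) : ZMod n) = 0 := congrArg Multiplicative.toAdd (MonoidHom.mem_ker.1 hm)
    obtain ⟨k, hk⟩ := (ZMod.intCast_zmod_eq_zero_iff_dvd _ _).1 hm'
    have e : χa m = χb m := by
      have := DFunLike.congr_fun hab (.ofAdd k)
      have hm2 : Multiplicative.ofAdd (k • (n : ℤ)) = m := by
        rw [smul_eq_mul, mul_comm, ← hk]; rfl
      rw [← hm2]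
      exact this
    have e' : χb.toHomUnits m = χa.toHomUnits m := Units.ext e.symm
    rw [MonoidHom.mem_ker]
    show χb.toHomUnits m * (χa.toHomUnits m)⁻¹ = 1
    rw [e', mul_inv_cancel]
  let z₀ : Multiplicative (ZMod n) →* (Γ(s.pt.left, ⊤))ˣ := MonoidHom.liftOfSurjective c hc ⟨q, hker⟩
  have hz₀ : z₀.comp c = q := MonoidHom.liftOfRightInverse_comp _ _ _ _
  let z : s.pt ⟶ Red.DS S (ZMod n) := dsPt ((Units.coeHom _).comp z₀)
  have hl : lift s.fst z ≫ ((Red.Gm S ◁ incl S n) ≫ μ[Red.Gm S]) = s.snd := by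
    rw [hmid, MonObj.comp_mul, lift_fst, ← Category.assoc, lift_snd, ← ha, ← hb]
    refine (congrArg (dsPt χa * ·) (dsPt_DSmap (Int.castAddHom (ZMod n)) _)).trans ?_
    rw [← dsPt_mul]
    refine congrArg dsPt (MonoidHom.ext fun m => ?_)
    show χa m * ((z₀.comp c m : (Γ(s.pt.left, ⊤))ˣ) : Γ(s.pt.left, ⊤)) = χb m
    rw [hz₀]
    show (χa.toHomUnits m : Γ(s.pt.left, ⊤)) * ((χb.toHomUnits m * (χa.toHomUnits m)⁻¹ : (Γ(s.pt.left, ⊤))ˣ) : _) = χb m
    rw [← Units.val_mul, mul_comm (χb.toHomUnits m), mul_inv_cancel_left]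
    rfl
  suffices key : ∀ m : s.pt ⟶ Red.Gm S ⊗ Red.DS S (ZMod n), m ≫ fst _ _ = s.fst →
      m ≫ ((Red.Gm S ◁ incl S n) ≫ μ[Red.Gm S]) = s.snd → m = lift s.fst z from
    ⟨lift s.fst z, lift_fst _ _, hl, fun {m} h1 h2 => key m h1 h2⟩
  intro m h1 h2
  refine CartesianMonoidalCategory.hom_ext _ _ (by rw [lift_fst]; exact h1) ?_
  rw [lift_snd]
  rw [hmid, MonObj.comp_mul, h1] at h2
  rw [hmid, MonObj.comp_mul, lift_fst] at hl
  have h3 : (m ≫ snd _ _) ≫ incl S n = z ≫ incl S n := by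
    have := h2.trans hl.symm
    rw [← Category.assoc, ← Category.assoc, lift_snd] at this
    exact mul_left_cancel this
  obtain ⟨χm, hm⟩ := (dsPt_bijective s.pt).2 (m ≫ snd _ _)
  rw [← hm, dsPt_DSmap, dsPt_DSmap] at h3
  rw [← hm]
  refine congrArg dsPt (MonoidHom.ext fun x => ?_)
  obtain ⟨k, rfl⟩ := hc x
  exact DFunLike.congr_fun ((dsPt_bijective s.pt).1 h3) k

variable {S n}

theorem isPullback_DSmap (φ : M →+ N) :
    IsPullback (pullback.fst (Red.diag Z0.{u} N).hom (toZ S)) (Red.DSmap S φ).left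
      (Red.diagMap Z0.{u} φ).left (pullback.fst (Red.diag Z0.{u} M).hom (toZ S)) := by
  have h1 : (Red.DSmap S φ).left ≫ pullback.fst (Red.diag Z0.{u} M).hom (toZ S) =
      pullback.fst (Red.diag Z0.{u} N).hom (toZ S) ≫ (Red.diagMap Z0.{u} φ).left := by
    exact pullback.lift_fst _ _ _
  have h2 : (Red.DSmap S φ).left ≫ pullback.snd (Red.diag Z0.{u} M).hom (toZ S) =
      pullback.snd (Red.diag Z0.{u} N).hom (toZ S) := by
    exact pullback.lift_snd _ _ _
  refine IsPullback.of_bot ?_ h1.symm (IsPullback.of_hasPullback (Red.diag Z0.{u} M).hom (toZ S))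
  rw [h2, Over.w]
  exact IsPullback.of_hasPullback _ _

theorem props_pw (S : Scheme.{u}) {n : ℕ} (hn : 0 < n) :
    Flat (pw S n).left ∧ Surjective (pw S n).left ∧ LocallyOfFinitePresentation (pw S n).left ∧
      QuasiCompact (pw S n).left := by
  let φ : Multiplicative ℤ →* Multiplicative ℤ := (zmultiplesHom ℤ (n : ℤ)).toMultiplicative
  have hφ : Function.Injective φ := fun a b h => by
    have h' : Multiplicative.toAdd a • (n : ℤ) = Multiplicative.toAdd b • (n : ℤ) := congrArg Multiplicative.toAdd h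
    rw [smul_eq_mul, smul_eq_mul] at h'
    exact Multiplicative.toAdd.injective (mul_right_cancel₀ (by exact_mod_cast hn.ne') h')
  let θ := (MonoidAlgebra.mapDomainAlgHom Z0.{u} Z0.{u} φ).toRingHom
  have hff : θ.FaithfullyFlat := Groth.Agent.MultHom.faithfullyFlat_mapDomain φ hφ
  obtain ⟨h1, h2⟩ := RingHom.FaithfullyFlat.iff_flat_and_comap_surjective.1 hff
  let g := (Red.diagMap Z0.{u} (zmultiplesHom ℤ (n : ℤ))).left
  have hg : g = Spec.map (CommRingCat.ofHom θ) := rfl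
  have gflat : Flat g := by rw [hg]; exact (HasRingHomProperty.Spec_iff (P := @Flat)).2 h1
  have gsurj : Surjective g := by rw [hg]; exact ⟨h2⟩
  haveI : IsNoetherianRing Z0.{u} := isNoetherianRing_of_ringEquiv ℤ (ULift.ringEquiv (R := ℤ)).symm
  haveI : Algebra.FiniteType Z0.{u} (MonoidAlgebra Z0.{u} (Multiplicative ℤ)) := inferInstance
  haveI : IsNoetherianRing (MonoidAlgebra Z0.{u} (Multiplicative ℤ)) :=
    Algebra.FiniteType.isNoetherianRing Z0.{u} _
  have hft : θ.FiniteType := RingHom.FiniteType.of_comp_finiteType (f := algebraMap Z0.{u} _) (by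
    rw [show θ.comp (algebraMap Z0.{u} _) = algebraMap Z0.{u} _ from
      RingHom.ext (MonoidAlgebra.mapDomainAlgHom Z0.{u} Z0.{u} φ).commutes]
    exact RingHom.finiteType_algebraMap.2 inferInstance)
  have glfp : LocallyOfFinitePresentation g := by
    rw [hg]
    exact (HasRingHomProperty.Spec_iff (P := @LocallyOfFinitePresentation)).2 (RingHom.FinitePresentation.of_finiteType.1 hft)
  haveI : IsAffineHom (Spec.map (CommRingCat.ofHom θ)) := inferInstance
  have gqc : QuasiCompact (Spec.map (CommRingCat.ofHom θ)) := inferInstance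
  have sq := (isPullback_DSmap (S := S) (zmultiplesHom ℤ (n : ℤ))).flip
  exact ⟨MorphismProperty.of_isPullback sq.flip gflat, MorphismProperty.of_isPullback sq.flip gsurj,
    MorphismProperty.of_isPullback sq.flip glfp, MorphismProperty.of_isPullback sq.flip gqc⟩

theorem isExactSeq_fppf (S : Scheme.{u}) {n : ℕ} (hn : 0 < n) :
    NonAbH1.IsExactSeq Scheme.fppfPrecoverage (incl S n) (pw S n) := by
  obtain ⟨h1, h2, h3, -⟩ := props_pw S hn
  refine ⟨isMonHom_DSmap _, isMonHom_DSmap _, incl_comp_pw S n, isPullback_pw S n,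
    Presieve.singleton (pw S n).left, Scheme.Hom.singleton_mem_fppfPrecoverage _, ?_⟩
  rintro S' f ⟨⟩
  exact ⟨𝟙 _, Category.id_comp _⟩

theorem isExactSeq_fpqc (S : Scheme.{u}) {n : ℕ} (hn : 0 < n) :
    NonAbH1.IsExactSeq Scheme.fpqcPrecoverage (incl S n) (pw S n) := by
  obtain ⟨a, b, c, d, R, hR, e⟩ := isExactSeq_fppf S hn
  exact ⟨a, b, c, d, R, Scheme.fppfPrecoverage_le_fpqcPrecoverage _ hR, e⟩

end KummerExactLib
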